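import Mathlib
import Groth.Prelude.Def_Flat
import Groth.Prelude.Def_CAlg
import Groth.Agent.FieldExtLD.Scheme
import Groth.Agent.FlatLocalDepth.Basic
import Groth.Agent.FlatLocalDepth.Miracle
import Groth.Agent.LocCohBasic.RegularPd
import Groth.Agent.Depth.CM

/-!
# Flatness over a polynomial ring versus the Cohen–Macaulay property
-/

set_option autoImplicit false
universe u

open AlgebraicGeometry CategoryTheory

namespace Groth.Agent.CMLocus

variable (k S : Type u) [Field k] [CommRing S] [Algebra k S] [Algebra.FiniteType k S]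

theorem exists_trdeg_residue (q : Ideal S) [q.IsPrime] :
    ∃ n : ℕ, Algebra.trdeg k q.ResidueField = n ∧ ringKrullDim (S ⧸ q) = n := by
  obtain ⟨n, hn, hn'⟩ := DimTheory.exists_trdeg_eq k (S ⧸ q)
  exact ⟨n, (DimTheory.trdeg_fractionField_eq k (S ⧸ q) q.ResidueField).trans hn', hn⟩

include k in
/-- local dimension = dimension of the local ring + dimension of the closure -/
theorem localDim_eq (q : PrimeSpectrum S) :
    FlatMor.localDim (PrimeSpectrum S) q =
      ringKrullDim (Localization.AtPrime q.asIdeal) + ringKrullDim (S ⧸ q.asIdeal) := by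
  let f := Spec.map (CommRingCat.ofHom (algebraMap k S))
  haveI : LocallyOfFiniteType f := by
    rw [HasRingHomProperty.Spec_iff (P := @LocallyOfFiniteType)]
    exact RingHom.finiteType_algebraMap.2 ‹_›
  have h := FieldExtLD.localDim_eq f (show ↥(Spec (CommRingCat.of S)) from q)
  refine (show FlatMor.localDim (PrimeSpectrum S) q = _ from h).trans ?_
  rw [WithBot.coe_add, add_comm]
  congr 1
  · rw [IsLocalization.AtPrime.ringKrullDim_eq_height q.asIdeal, PrimeSpectrum.height_eq_orderHeight q]
    rw [← Order.coheight_orderIso (specOrderIsoPrimeSpectrum (CommRingCat.of S))]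
    rfl
  · exact DimTheory.height_spec (CommRingCat.of S) q

/-- for a quasi-finite map from a polynomial ring, flatness is Cohen–Macaulayness plus the right dimension -/
theorem flat_iff {d : ℕ} [Algebra (MvPolynomial (Fin d) k) S]
    [IsScalarTower k (MvPolynomial (Fin d) k) S] [Algebra.QuasiFinite (MvPolynomial (Fin d) k) S]
    (q : Ideal S) [q.IsPrime] :
    Module.Flat (MvPolynomial (Fin d) k) (Localization.AtPrime q) ↔
      (LocCoh.IsCohenMacaulayLocalRing (Localization.AtPrime q) ∧
        FlatMor.localDim (PrimeSpectrum S) ⟨q, inferInstance⟩ = (d : WithBot ℕ∞)) := by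
  let P := MvPolynomial (Fin d) k
  let p := q.under P
  let A := Localization.AtPrime p
  let B := Localization.AtPrime q
  letI : Algebra A B := Localization.AtPrime.algebraOfLiesOver p q
  have : IsNoetherianRing S := Algebra.FiniteType.isNoetherianRing k S
  have : IsNoetherianRing B := IsLocalization.isNoetherianRing q.primeCompl _ ‹_›
  have : IsLocalHom (algebraMap A B) := inferInstance
  have hA : LocCoh.IsCohenMacaulayLocalRing A := LocCohBasic.isCohenMacaulayLocalRing_of_isRegularLocalRing (R := A)
  -- the closed fibre of `A → B` has dimension zero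
  let F := B ⧸ (IsLocalRing.maximalIdeal A).map (algebraMap A B)
  have : Nontrivial F := Ideal.Quotient.nontrivial_iff.2
    (ne_top_of_le_ne_top (IsLocalRing.maximalIdeal.isMaximal B).ne_top
      (((IsLocalRing.local_hom_TFAE (algebraMap A B)).out 0 2 rfl rfl).1 inferInstance))
  have : IsLocalRing F := IsLocalRing.of_surjective' (Ideal.Quotient.mk _) Ideal.Quotient.mk_surjective
  have hF : ringKrullDim F = 0 := by
    refine le_antisymm ?_ (ringKrullDim_nonneg_of_nontrivial)
    refine Order.krullDim_nonpos_iff_forall_isMax.2 fun x y hxy => ?_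
    let x' := x.asIdeal.comap (Ideal.Quotient.mk _)
    let y' := y.asIdeal.comap (Ideal.Quotient.mk _)
    have hover : ∀ z : PrimeSpectrum F, (z.asIdeal.comap (Ideal.Quotient.mk _)).under P = p := fun z => by
      set z' := z.asIdeal.comap (Ideal.Quotient.mk ((IsLocalRing.maximalIdeal A).map (algebraMap A B))) with hz'
      have h1 : (IsLocalRing.maximalIdeal A).map (algebraMap A B) ≤ z' := by
        intro a ha
        simp [hz', Ideal.Quotient.eq_zero_iff_mem.2 ha]
      refine le_antisymm ?_ ?_
      · have h2 : z'.under P ≤ (IsLocalRing.maximalIdeal B).under P :=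
          Ideal.comap_mono (IsLocalRing.le_maximalIdeal (Ideal.IsPrime.ne_top'))
        refine h2.trans_eq ?_
        rw [← Ideal.under_under (B := S), Localization.AtPrime.under_maximalIdeal]
      · intro a ha
        have h3 : algebraMap P A a ∈ IsLocalRing.maximalIdeal A :=
          (IsLocalization.AtPrime.to_map_mem_maximal_iff A p a).2 ha
        have h4 := h1 (Ideal.mem_map_of_mem _ h3)
        rwa [← IsScalarTower.algebraMap_apply] at h4
    have hle : x' ≤ y' := Ideal.comap_mono hxy
    have e : x' = y' := Algebra.QuasiFinite.eq_of_le_of_under_eq (R := P) x' y' hle ((hover x).trans (hover y).symm)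
    exact (PrimeSpectrum.ext (Ideal.comap_injective_of_surjective _ Ideal.Quotient.mk_surjective e)).ge
  have hFCM : LocCoh.IsCohenMacaulayLocalRing F := by
    rw [Depth.isCohenMacaulayLocalRing_iff]
    exact le_antisymm (hF.le.trans (WithBot.coe_le_coe.2 zero_le)) Depth.depth_le_ringKrullDim
  -- dimensions
  obtain ⟨t, ht, htd⟩ := exists_trdeg_residue k S q
  obtain ⟨t', ht', htd'⟩ := exists_trdeg_residue k P p
  obtain rfl : t = t' := by
    have : Algebra.trdeg p.ResidueField q.ResidueField = 0 := trdeg_eq_zero
    have h := trdeg_add_eq k p.ResidueField (A := q.ResidueField)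
    rw [this, add_zero, ht, ht'] at h
    exact_mod_cast h.symm
  have hP : ringKrullDim A + (t : WithBot ℕ∞) = d := by
    obtain ⟨h, hh⟩ := ENat.ne_top_iff_exists.1 (Ideal.height_ne_top (I := p) Ideal.IsPrime.ne_top')
    have := DimTheory.height_add_ringKrullDim_quotient k h p hh.symm
    rw [htd', DimTheory.ringKrullDim_mvPolynomial_fin] at this
    rw [IsLocalization.AtPrime.ringKrullDim_eq_height p, ← hh, add_comm]
    exact this
  have hflat : Module.Flat P B ↔ Module.Flat A B :=
    (Module.flat_iff_of_isLocalization A p.primeCompl B).symm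
  rw [hflat, localDim_eq k S ⟨q, inferInstance⟩]
  show Module.Flat A B ↔ LocCoh.IsCohenMacaulayLocalRing B ∧ ringKrullDim B + ringKrullDim (S ⧸ q) = _
  rw [htd]
  constructor
  · intro h
    refine ⟨(FlatLocalDepth.isCohenMacaulayLocalRing_iff A B).2 ⟨hA, hFCM⟩, ?_⟩
    rw [FlatLocalDepth.ringKrullDim_eq_add A B, hF, add_zero]
    exact hP
  · rintro ⟨hB, hd⟩
    refine FlatLocalDepth.miracle_flatness ?_
    rw [hF, add_zero]
    rw [← hP] at hd
    exact ENat.WithBot.add_natCast_cancel.1 hd

end Groth.Agent.CMLocus
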