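import Mathlib
import Groth.Agent.CMLocus.Basic
import Groth.Agent.FlatLocalDepth.Comp
import Groth.Agent.FlatLocus.Model
import Groth.Agent.RelDim.Basic

/-!
# Openness of the Cohen–Macaulay locus
-/

set_option autoImplicit false
universe u

namespace Groth.Agent.CMLocus

variable (k S : Type u) [Field k] [CommRing S] [Algebra k S] [Algebra.FiniteType k S]

include k in
theorem isOpen_cmLocus :
    IsOpen {q : PrimeSpectrum S | LocCoh.IsCohenMacaulayLocalRing (Localization.AtPrime q.asIdeal)} := by
  have : IsNoetherianRing S := Algebra.FiniteType.isNoetherianRing k S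
  rw [isOpen_iff_forall_mem_open]
  intro q hq
  obtain ⟨t, -, htd⟩ := exists_trdeg_residue k S q.asIdeal
  obtain ⟨h, hh⟩ := ENat.ne_top_iff_exists.1 (Ideal.height_ne_top (I := q.asIdeal) Ideal.IsPrime.ne_top')
  have hdim : FlatMor.localDim (PrimeSpectrum S) q = ((h + t : ℕ) : WithBot ℕ∞) := by
    rw [localDim_eq k S q, htd, IsLocalization.AtPrime.ringKrullDim_eq_height q.asIdeal, ← hh]
    rfl
  obtain ⟨U, hqU, hU⟩ := TopDimLib.exists_localDim_eq q
  obtain ⟨_, ⟨g, rfl⟩, hqg, hsub⟩ :=
    PrimeSpectrum.isTopologicalBasis_basic_opens.exists_subset_of_mem_open hqU U.2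
  let S' := Localization.Away g
  have hS'dim : ringKrullDim S' = ((h + t : ℕ) : WithBot ℕ∞) := by
    rw [RelDim.dim_away]
    exact le_antisymm ((TopDimLib.dim_subtype_mono hsub).trans_eq (hU.trans hdim))
      (hdim ▸ TopDimLib.localDim_le (U := PrimeSpectrum.basicOpen g) hqg)
  have : Algebra.FiniteType S S' := IsLocalization.finiteType_of_monoid_fg (Submonoid.powers g) _
  have : Algebra.FiniteType k S' := Algebra.FiniteType.trans (S := S) ‹_› ‹_›
  let ι : PrimeSpectrum S' → PrimeSpectrum S := PrimeSpectrum.comap (algebraMap S S')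
  have hι : Topology.IsOpenEmbedding ι := PrimeSpectrum.localization_away_isOpenEmbedding S' g
  obtain ⟨q', hq'⟩ : q ∈ Set.range ι := by
    rw [PrimeSpectrum.localization_away_comap_range S' g]
    exact hqg
  have : Nontrivial S' := q'.nontrivial
  obtain ⟨n, φ, -, hφ, hn⟩ := DimTheory.exists_normalization k S'
  obtain rfl : n = h + t := by
    have := hn.symm.trans hS'dim
    exact_mod_cast this
  let P := MvPolynomial (Fin (h + t)) k
  letI : Algebra P S' := φ.toRingHom.toAlgebra
  haveI : IsScalarTower k P S' := IsScalarTower.of_algHom φ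
  haveI : Module.Finite P S' := hφ
  haveI : Algebra.FinitePresentation P S' := Algebra.FinitePresentation.of_finiteType.1 inferInstance
  have hcm : ∀ z : PrimeSpectrum S', LocCoh.IsCohenMacaulayLocalRing (Localization.AtPrime z.asIdeal) ↔
      LocCoh.IsCohenMacaulayLocalRing (Localization.AtPrime (ι z).asIdeal) := fun z => by
    let e := (IsLocalization.localizationLocalizationAtPrimeIsoLocalization (Submonoid.powers g) z.asIdeal).toRingEquiv
    exact ⟨fun h => @FlatLocalDepth.isCohenMacaulayLocalRing_of_ringEquiv _ _ _ _ h e.symm,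
      fun h => @FlatLocalDepth.isCohenMacaulayLocalRing_of_ringEquiv _ _ _ _ h e⟩
  have hfl : ∀ z : PrimeSpectrum S', Module.Flat P (LocalizedModule z.asIdeal.primeCompl S') ↔
      (LocCoh.IsCohenMacaulayLocalRing (Localization.AtPrime z.asIdeal) ∧
        FlatMor.localDim (PrimeSpectrum S') z = ((h + t : ℕ) : WithBot ℕ∞)) := fun z => by
    rw [← flat_iff k S' z.asIdeal]
  refine ⟨ι '' {z | Module.Flat P (LocalizedModule z.asIdeal.primeCompl S')}, ?_,
    hι.isOpenMap _ FlatLocus.isOpen_flatLocus, ⟨q', ?_, hq'⟩⟩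
  · rintro _ ⟨z, hz, rfl⟩
    exact (hcm z).1 ((hfl z).1 hz).1
  · refine (hfl q').2 ⟨(hcm q').2 (hq' ▸ hq), ?_⟩
    rw [← FieldExtLD.localDim_of_isOpenEmbedding hι q', hq', hdim]

end Groth.Agent.CMLocus
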